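import Cfsg.Prelude.Def_ConjugacyFunctors
import Mathlib.GroupTheory.Nilpotent
import Mathlib.GroupTheory.PGroup
set_option linter.all false

/-!
# The K-sequence of a group and the K-infinity subgroups (basic theory)

Monotonicity, stabilisation, transport along injective homomorphisms, the members of the families,
maximal members are self-centralizing, the K-infinity subgroups contain their centralizers and are
isomorphism-invariant `p`-group functors; comparison of the K-sequences of `T ≤ S` when `T` contains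
all terms of nonnegative index.
-/

set_option autoImplicit false

universe u v

namespace Cfsg.Agent.H35.KSeq

open Cfsg Subgroup
open scoped commutatorElement

section Basic

variable {P : Type u} [Group P]

theorem lower_anti {Q₁ Q₂ : Subgroup P} (h : Q₁ ≤ Q₂) :
    kLowerStarFamily Q₂ ⊆ kLowerStarFamily Q₁ := by
  rintro B ⟨h1, h2, h3⟩
  exact ⟨h1, h.trans h2, fun A hA hAQ => h3 A hA (hAQ.trans h)⟩

theorem upper_anti {Q₁ Q₂ : Subgroup P} (h : Q₁ ≤ Q₂) :
    kUpperStarFamily Q₂ ⊆ kUpperStarFamily Q₁ := by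
  rintro B ⟨h1, h2⟩
  exact ⟨h1, (commutator_mono le_rfl h).trans h2⟩

theorem odd_zero : kSeqOdd P 0 = ⊤ := rfl

theorem odd_succ (n : ℕ) : kSeqOdd P (n + 1) = sSup (kUpperStarFamily (kSeqEven P n)) := rfl

theorem even_eq (n : ℕ) : kSeqEven P n = sSup (kLowerStarFamily (kSeqOdd P n)) := rfl

theorem even_le_of_odd_le {m n : ℕ} (h : kSeqOdd P n ≤ kSeqOdd P m) :
    kSeqEven P m ≤ kSeqEven P n :=
  sSup_le_sSup (lower_anti h)

theorem odd_succ_le_of_even_le {m n : ℕ} (h : kSeqEven P m ≤ kSeqEven P n) :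
    kSeqOdd P (n + 1) ≤ kSeqOdd P (m + 1) :=
  sSup_le_sSup (upper_anti h)

theorem odd_succ_le (n : ℕ) : kSeqOdd P (n + 1) ≤ kSeqOdd P n := by
  induction n with
  | zero => exact le_top
  | succ n ih => exact odd_succ_le_of_even_le (even_le_of_odd_le ih)

theorem odd_antitone : Antitone (kSeqOdd P) := antitone_nat_of_succ_le odd_succ_le

theorem even_le_succ (n : ℕ) : kSeqEven P n ≤ kSeqEven P (n + 1) :=
  even_le_of_odd_le (odd_succ_le n)

theorem even_monotone : Monotone (kSeqEven P) := monotone_nat_of_le_succ even_le_succ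

/-- From some index on both sequences are constant. -/
theorem eventually_const [Finite P] :
    ∃ N : ℕ, ∀ n, N ≤ n → kSeqEven P n = kInfLower P ∧ kSeqOdd P n = kInfUpper P := by
  obtain ⟨N₁, h₁⟩ := WellFoundedGT.monotone_chain_condition
    (⟨kSeqEven P, even_monotone⟩ : ℕ →o Subgroup P)
  obtain ⟨N₂, h₂⟩ := WellFoundedGT.monotone_chain_condition
    (⟨fun n => OrderDual.toDual (kSeqOdd P n), fun a b h => odd_antitone h⟩ :
      ℕ →o (Subgroup P)ᵒᵈ)
  have h₂' : ∀ m, N₂ ≤ m → kSeqOdd P N₂ = kSeqOdd P m := fun m hm => h₂ m hm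
  have h₁' : ∀ m, N₁ ≤ m → kSeqEven P N₁ = kSeqEven P m := fun m hm => h₁ m hm
  refine ⟨max N₁ N₂, fun n hn => ⟨?_, ?_⟩⟩
  · apply le_antisymm (le_iSup (kSeqEven P) n)
    refine iSup_le fun m => ?_
    have := even_monotone (P := P) (le_max_left m (max N₁ N₂))
    refine this.trans ?_
    rw [← h₁' _ ((le_max_left N₁ N₂).trans (le_max_right m (max N₁ N₂))),
      h₁' n ((le_max_left _ _).trans hn)]
  · apply le_antisymm _ (iInf_le (kSeqOdd P) n)
    refine le_iInf fun m => ?_
    have := odd_antitone (P := P) (le_max_left m (max N₁ N₂))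
    refine le_trans ?_ this
    rw [← h₂' _ ((le_max_right N₁ N₂).trans (le_max_right m (max N₁ N₂))),
      h₂' n ((le_max_right _ _).trans hn)]

end Basic

/-! ### Transport along injective homomorphisms -/

section Transport

variable {P : Type u} {R : Type v} [Group P] [Group R] (f : P →* R)

theorem map_centralizer_inf (hf : Function.Injective f) (B : Subgroup P) :
    B.map f ⊓ centralizer ((B.map f : Subgroup R) : Set R) =
      (B ⊓ centralizer (B : Set P)).map f := by
  ext x
  simp only [mem_inf, mem_map, mem_centralizer_iff, coe_map, Set.mem_image, SetLike.mem_coe,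
    forall_exists_index, and_imp, forall_apply_eq_imp_iff₂]
  constructor
  · rintro ⟨⟨b, hb, rfl⟩, h⟩
    exact ⟨b, ⟨hb, fun c hc => hf (by simpa using h c hc)⟩, rfl⟩
  · rintro ⟨b, ⟨hb, h⟩, rfl⟩
    exact ⟨⟨b, hb, rfl⟩, fun c hc => by rw [← map_mul, ← map_mul, h c hc]⟩

theorem le_centralizer_map_iff (hf : Function.Injective f) (A B : Subgroup P) :
    A.map f ≤ centralizer ((B.map f : Subgroup R) : Set R) ↔ A ≤ centralizer (B : Set P) := by
  constructor
  · intro h a ha
    rw [mem_centralizer_iff]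
    intro b hb
    have := h (mem_map_of_mem f ha)
    rw [mem_centralizer_iff] at this
    exact hf (by simpa using this (f b) (mem_map_of_mem f hb))
  · rintro h _ ⟨a, ha, rfl⟩
    rw [mem_centralizer_iff]
    rintro _ ⟨b, hb, rfl⟩
    have := h ha
    rw [mem_centralizer_iff] at this
    rw [← map_mul, ← map_mul, this b hb]

theorem le_normalizer_map_iff (hf : Function.Injective f) (A B : Subgroup P) :
    A.map f ≤ normalizer ((B.map f : Subgroup R) : Set R) ↔ A ≤ normalizer (B : Set P) := by
  constructor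
  · intro h a ha
    have := h (mem_map_of_mem f ha)
    rw [mem_normalizer_iff] at this ⊢
    intro b
    have := this (f b)
    rw [← map_mul, ← map_inv, ← map_mul, mem_map_iff_mem hf, mem_map_iff_mem hf] at this
    exact this
  · rintro h _ ⟨a, ha, rfl⟩
    have := h ha
    rw [mem_normalizer_iff] at this
    rw [mem_normalizer_iff]
    intro x
    constructor
    · rintro ⟨b, hb, rfl⟩
      exact ⟨a * b * a⁻¹, (this b).1 hb, by simp⟩
    · rintro ⟨b, hb, hbx⟩
      refine ⟨a⁻¹ * b * a, ?_, ?_⟩
      · rw [SetLike.mem_coe, this]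
        simpa [mul_assoc] using hb
      · simp only [map_mul, map_inv, hbx]
        group

theorem classTwo_map_iff (hf : Function.Injective f) (B : Subgroup P) :
    B.map f ∈ classTwoSubgroups R ↔ B ∈ classTwoSubgroups P := by
  simp only [classTwoSubgroups, Set.mem_ofPred_eq]
  rw [← map_commutator, le_centralizer_map_iff f hf]

theorem map_eq_bot (hf : Function.Injective f) (B : Subgroup P) : B.map f = ⊥ ↔ B = ⊥ :=
  map_eq_bot_iff_of_injective B hf

theorem upper_map_iff (hf : Function.Injective f) (B Q : Subgroup P) :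
    B.map f ∈ kUpperStarFamily (Q.map f) ↔ B ∈ kUpperStarFamily Q := by
  simp only [kUpperStarFamily, Set.mem_ofPred_eq]
  rw [classTwo_map_iff f hf, ← map_commutator, map_centralizer_inf f hf,
    map_le_map_iff_of_injective hf]

theorem lower_map_iff (hf : Function.Injective f) (B Q : Subgroup P) :
    B.map f ∈ kLowerStarFamily (Q.map f) ↔ B ∈ kLowerStarFamily Q := by
  simp only [kLowerStarFamily, Set.mem_ofPred_eq]
  rw [classTwo_map_iff f hf, le_normalizer_map_iff f hf]
  refine and_congr_right fun _ => and_congr_right fun _ => ?_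
  constructor
  · intro h A hA hAQ hBA h1 h2
    have := h (A.map f) ((classTwo_map_iff f hf A).2 hA) (map_mono hAQ)
      ((le_normalizer_map_iff f hf B A).2 hBA)
      (by rw [← map_commutator, ← map_commutator, map_eq_bot f hf]; exact h1)
      (by
        rw [map_centralizer_inf f hf, ← map_commutator, ← map_commutator, map_eq_bot f hf]
        exact h2)
    rw [← map_commutator, map_centralizer_inf f hf, map_le_map_iff_of_injective hf] at this
    exact this
  · intro h A hA hAQ hBA h1 h2
    obtain ⟨A, rfl⟩ : ∃ A' : Subgroup P, A = A'.map f := by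
      refine ⟨A.comap f, ?_⟩
      rw [map_comap_eq, inf_eq_right.2]
      exact hAQ.trans (map_le_range f Q)
    have := h A ((classTwo_map_iff f hf A).1 hA) ((map_le_map_iff_of_injective hf).1 hAQ)
      ((le_normalizer_map_iff f hf B A).1 hBA)
      (by rw [← map_commutator, ← map_commutator, map_eq_bot f hf] at h1; exact h1)
      (by
        rw [map_centralizer_inf f hf, ← map_commutator, ← map_commutator, map_eq_bot f hf] at h2
        exact h2)
    rw [← map_commutator, map_centralizer_inf f hf, map_le_map_iff_of_injective hf]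
    exact this

theorem map_sSup_of (𝒦 : Set (Subgroup P)) (𝓛 : Set (Subgroup R))
    (h : ∀ B : Subgroup P, B.map f ∈ 𝓛 ↔ B ∈ 𝒦) :
    (sSup 𝒦).map f = sSup {B | B ≤ f.range ∧ B ∈ 𝓛} := by
  rw [sSup_eq_iSup, map_iSup]
  apply le_antisymm
  · refine iSup_le fun B => ?_
    rw [map_iSup]
    exact iSup_le fun hB => le_sSup ⟨map_le_range f B, (h B).2 hB⟩
  · refine sSup_le ?_
    rintro B ⟨hB, hB'⟩
    have e : B = (B.comap f).map f := by
      rw [map_comap_eq, inf_eq_right.2 hB]
    have hm : B.comap f ∈ 𝒦 := by rw [← h, ← e]; exact hB'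
    rw [e]
    exact le_trans (le_of_eq (by simp [hm])) (le_iSup _ (B.comap f))

theorem map_sSup_upper (hf : Function.Injective f) (Q : Subgroup P) :
    (sSup (kUpperStarFamily Q)).map f = sSup {B | B ≤ f.range ∧ B ∈ kUpperStarFamily (Q.map f)} :=
  map_sSup_of f _ _ fun B => upper_map_iff f hf B Q

theorem map_sSup_lower (hf : Function.Injective f) (Q : Subgroup P) :
    (sSup (kLowerStarFamily Q)).map f = sSup {B | B ≤ f.range ∧ B ∈ kLowerStarFamily (Q.map f)} :=
  map_sSup_of f _ _ fun B => lower_map_iff f hf B Q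

end Transport

/-! ### The K-sequence of a subgroup, inside the group -/

section Ambient

variable {G : Type u} [Group G]

/-- The odd-indexed terms of the K-sequence of `S`, as subgroups of `G`. -/
def oddIn (S : Subgroup G) (n : ℕ) : Subgroup G := (kSeqOdd ↥S n).map S.subtype

/-- The even-indexed terms of the K-sequence of `S`, as subgroups of `G`. -/
def evenIn (S : Subgroup G) (n : ℕ) : Subgroup G := (kSeqEven ↥S n).map S.subtype

theorem oddIn_zero (S : Subgroup G) : oddIn S 0 = S := by
  rw [oddIn, odd_zero, ← MonoidHom.range_eq_map, range_subtype]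

theorem oddIn_succ (S : Subgroup G) (n : ℕ) :
    oddIn S (n + 1) = sSup {B | B ≤ S ∧ B ∈ kUpperStarFamily (evenIn S n)} := by
  rw [oddIn, odd_succ, map_sSup_upper S.subtype S.subtype_injective, range_subtype]
  rfl

theorem evenIn_eq (S : Subgroup G) (n : ℕ) :
    evenIn S n = sSup {B | B ≤ S ∧ B ∈ kLowerStarFamily (oddIn S n)} := by
  rw [evenIn, even_eq, map_sSup_lower S.subtype S.subtype_injective, range_subtype]
  rfl

theorem oddIn_le (S : Subgroup G) (n : ℕ) : oddIn S n ≤ S := map_subtype_le _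

theorem evenIn_le (S : Subgroup G) (n : ℕ) : evenIn S n ≤ S := map_subtype_le _

theorem oddIn_antitone (S : Subgroup G) : Antitone (oddIn S) :=
  fun _ _ h => map_mono (odd_antitone h)

theorem evenIn_monotone (S : Subgroup G) : Monotone (evenIn S) :=
  fun _ _ h => map_mono (even_monotone h)

theorem inducedLower_eq (S : Subgroup G) :
    inducedFunctor kInfLower S = ⨆ n, evenIn S n := by
  simp only [inducedFunctor, kInfLower, map_iSup]
  rfl

theorem inducedUpper_eq (S : Subgroup G) :
    inducedFunctor kInfUpper S = ⨅ n, oddIn S n := by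
  simp only [inducedFunctor, kInfUpper]
  rw [map_iInf _ S.subtype_injective]
  rfl

theorem map_oddIn_evenIn {R : Type v} [Group R] (f : G →* R) (hf : Function.Injective f)
    (S : Subgroup G) (n : ℕ) :
    (oddIn S n).map f = oddIn (S.map f) n ∧ (evenIn S n).map f = evenIn (S.map f) n := by
  have key : ∀ n, (oddIn S n).map f = oddIn (S.map f) n →
      (evenIn S n).map f = evenIn (S.map f) n := by
    intro n hn
    rw [evenIn_eq, evenIn_eq, ← hn]
    have := map_sSup_of f {B | B ≤ S ∧ B ∈ kLowerStarFamily (oddIn S n)}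
      {B | B ≤ S.map f ∧ B ∈ kLowerStarFamily ((oddIn S n).map f)} (fun B => by
        simp only [Set.mem_ofPred_eq]
        rw [map_le_map_iff_of_injective hf, lower_map_iff f hf])
    rw [this]
    congr 1
    ext B
    simp only [Set.mem_ofPred_eq, and_iff_right_iff_imp]
    exact fun h => h.1.trans (map_le_range f S)
  have hodd : ∀ n, (oddIn S n).map f = oddIn (S.map f) n := by
    intro n
    induction n with
    | zero => rw [oddIn_zero, oddIn_zero]
    | succ n ih =>
      rw [oddIn_succ, oddIn_succ, ← key n ih]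
      have := map_sSup_of f {B | B ≤ S ∧ B ∈ kUpperStarFamily (evenIn S n)}
        {B | B ≤ S.map f ∧ B ∈ kUpperStarFamily ((evenIn S n).map f)} (fun B => by
          simp only [Set.mem_ofPred_eq]
          rw [map_le_map_iff_of_injective hf, upper_map_iff f hf])
      rw [this]
      congr 1
      ext B
      simp only [Set.mem_ofPred_eq, and_iff_right_iff_imp]
      exact fun h => h.1.trans (map_le_range f S)
  exact ⟨hodd n, key n (hodd n)⟩

theorem oddIn_top (n : ℕ) : oddIn (⊤ : Subgroup G) n = kSeqOdd G n := by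
  have key : ∀ n, oddIn (⊤ : Subgroup G) n = kSeqOdd G n →
      evenIn (⊤ : Subgroup G) n = kSeqEven G n := by
    intro n hn
    rw [evenIn_eq, hn, even_eq]
    simp
  induction n with
  | zero => rw [oddIn_zero, odd_zero]
  | succ n ih => rw [oddIn_succ, key n ih, odd_succ]; simp

theorem evenIn_top (n : ℕ) : evenIn (⊤ : Subgroup G) n = kSeqEven G n := by
  rw [evenIn_eq, oddIn_top, even_eq]
  simp

end Ambient

/-! ### Isomorphism invariance -/

section Iso

variable {P : Type u} {R : Type v} [Group P] [Group R]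

theorem map_equiv (φ : P ≃* R) (n : ℕ) :
    (kSeqOdd P n).map φ.toMonoidHom = kSeqOdd R n ∧
      (kSeqEven P n).map φ.toMonoidHom = kSeqEven R n := by
  have h := map_oddIn_evenIn φ.toMonoidHom φ.injective (⊤ : Subgroup P) n
  have e : (⊤ : Subgroup P).map φ.toMonoidHom = ⊤ := map_top_of_surjective _ φ.surjective
  rw [e, oddIn_top, evenIn_top, oddIn_top, evenIn_top] at h
  exact h

theorem kInfLower_map_equiv (φ : P ≃* R) :
    (kInfLower P).map φ.toMonoidHom = kInfLower R := by
  simp only [kInfLower, map_iSup, (map_equiv φ _).2]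

theorem kInfUpper_map_equiv (φ : P ≃* R) :
    (kInfUpper P).map φ.toMonoidHom = kInfUpper R := by
  simp only [kInfUpper]
  rw [map_iInf _ φ.injective]
  simp only [(map_equiv φ _).1]

/-- Compatibility of the induced functors with injective homomorphisms. -/
theorem inducedLower_map (f : P →* R) (hf : Function.Injective f) (S : Subgroup P) :
    (inducedFunctor kInfLower S).map f = inducedFunctor kInfLower (S.map f) := by
  rw [inducedLower_eq, inducedLower_eq, map_iSup]
  simp only [(map_oddIn_evenIn f hf S _).2]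

theorem inducedUpper_map (f : P →* R) (hf : Function.Injective f) (S : Subgroup P) :
    (inducedFunctor kInfUpper S).map f = inducedFunctor kInfUpper (S.map f) := by
  rw [inducedUpper_eq, inducedUpper_eq, map_iInf _ hf]
  simp only [(map_oddIn_evenIn f hf S _).1]

end Iso

/-! ### Members of the families -/

section Members

variable {P : Type u} [Group P]

theorem abelian_mem_classTwo {A : Subgroup P} (hA : IsMulCommutative ↥A) :
    A ∈ classTwoSubgroups P := by
  have : ⁅A, A⁆ = ⊥ := commutator_eq_bot_iff_le_centralizer.2 (le_centralizer_iff_isMulCommutative.2 hA)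
  simp [classTwoSubgroups, this]

theorem inf_centralizer_eq_of_abelian {A : Subgroup P} (hA : IsMulCommutative ↥A) :
    A ⊓ centralizer (A : Set P) = A :=
  inf_eq_left.2 (le_centralizer_iff_isMulCommutative.2 hA)

theorem abelian_normal_mem_upper {A : Subgroup P} [A.Normal] (hA : IsMulCommutative ↥A)
    (Q : Subgroup P) : A ∈ kUpperStarFamily Q :=
  ⟨abelian_mem_classTwo hA, by
    rw [inf_centralizer_eq_of_abelian hA]; exact commutator_le_left A Q⟩

theorem le_normalizer_of_normal' (A Q : Subgroup P) [A.Normal] : Q ≤ normalizer (A : Set P) := by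
  rw [normalizer_eq_top]; exact le_top

theorem abelian_normal_mem_lower {A : Subgroup P} [A.Normal] (hA : IsMulCommutative ↥A)
    (Q : Subgroup P) : A ∈ kLowerStarFamily Q :=
  ⟨abelian_mem_classTwo hA, le_normalizer_of_normal' A Q, fun B _ _ _ _ _ => by
    rw [inf_centralizer_eq_of_abelian hA]; exact commutator_le_left A B⟩

/-- The step common to the three families: if `C_P(B) ≰ B`, there is an element `x` of `C_P(B)`
outside `B`, central modulo `B` in `N_P(B)`. -/
theorem exists_central_step [Finite P] {p : ℕ} [Fact p.Prime] (hP : IsPGroup p P)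
    (B : Subgroup P) (h : ¬ centralizer (B : Set P) ≤ B) :
    ∃ x ∈ centralizer (B : Set P), x ∉ B ∧
      ∀ y ∈ normalizer (B : Set P), x * y * x⁻¹ * y⁻¹ ∈ B ⊓ centralizer (B : Set P) := by
  obtain ⟨n, hn⟩ := Subgroup.nilpotent_iff_lowerCentralSeries.1 (IsPGroup.isNilpotent hP)
  let L : ℕ → Subgroup P := fun k => Nat.rec (centralizer (B : Set P))
    (fun _ K => ⁅K, normalizer (B : Set P)⁆) k
  have hL0 : L 0 = centralizer (B : Set P) := rfl
  have hLs : ∀ k, L (k + 1) = ⁅L k, normalizer (B : Set P)⁆ := fun k => rfl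
  have hLn : ∀ k, L k ≤ Subgroup.lowerCentralSeries (⊤ : Subgroup P) k := by
    intro k
    induction k with
    | zero => exact le_top
    | succ k ih =>
      rw [hLs, Subgroup.lowerCentralSeries_succ]
      exact commutator_mono ih le_top
  have hLC : ∀ k, L k ≤ centralizer (B : Set P) := by
    intro k
    induction k with
    | zero => exact le_rfl
    | succ k ih =>
      rw [hLs, commutator_le]
      intro x hx y hy
      have hx' := ih hx
      rw [mem_centralizer_iff] at hx' ⊢
      intro b hb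
      have hy' := hy
      rw [mem_normalizer_iff] at hy'
      have hb' : y⁻¹ * b * y ∈ (B : Set P) := by
        rw [SetLike.mem_coe, hy']; simpa [mul_assoc] using hb
      have hb'' : x⁻¹ * b * x = b := by
        rw [mul_assoc, hx' b hb]; group
      have h2 := hx' _ hb'
      rw [commutatorElement_def]
      have h3 : x⁻¹ * (y⁻¹ * b * y) * x = y⁻¹ * b * y := by
        rw [mul_assoc, h2]; group
      have h4 : x * b = b * x := (hx' b hb).symm
      have h5 : y * x⁻¹ * y⁻¹ * b = b * (y * x⁻¹ * y⁻¹) := by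
        calc y * x⁻¹ * y⁻¹ * b = y * (x⁻¹ * (y⁻¹ * b * y) * x) * x⁻¹ * y⁻¹ := by group
          _ = y * (y⁻¹ * b * y) * x⁻¹ * y⁻¹ := by rw [h3]
          _ = b * (y * x⁻¹ * y⁻¹) := by group
      calc b * (x * y * x⁻¹ * y⁻¹) = (b * x) * (y * x⁻¹ * y⁻¹) := by group
        _ = (x * b) * (y * x⁻¹ * y⁻¹) := by rw [h4]
        _ = x * (b * (y * x⁻¹ * y⁻¹)) := by group
        _ = x * (y * x⁻¹ * y⁻¹ * b) := by rw [h5]
        _ = x * y * x⁻¹ * y⁻¹ * b := by group
  have hex : ∃ k, L k ≤ B := ⟨n, (hLn n).trans (by rw [hn]; exact bot_le)⟩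
  obtain ⟨k, hk1, hk2⟩ : ∃ k, ¬ L k ≤ B ∧ L (k + 1) ≤ B := by
    by_contra hcon
    simp only [not_exists, not_and] at hcon
    have hall : ∀ k, ¬ L k ≤ B := by
      intro k
      induction k with
      | zero => exact h
      | succ k ih => exact hcon k ih
    obtain ⟨k, hk⟩ := hex
    exact hall k hk
  obtain ⟨x, hx, hxB⟩ := SetLike.not_le_iff_exists.1 hk1
  refine ⟨x, hLC k hx, hxB, fun y hy => ?_⟩
  have : ⁅x, y⁆ ∈ L (k + 1) := by rw [hLs]; exact commutator_mem_commutator hx hy
  rw [commutatorElement_def] at this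
  exact ⟨hk2 this, hLC (k + 1) this⟩

/-- A commutator subgroup `⁅D, Q⁆` lies in a subgroup `Z` normalized by `D` if this holds for
generators of `D`. -/
theorem commutator_closure_le {Q Z : Subgroup P} {s : Set P}
    (hZ : closure s ≤ normalizer (Z : Set P))
    (h : ∀ x ∈ s, ∀ q ∈ Q, x * q * x⁻¹ * q⁻¹ ∈ Z) : ⁅closure s, Q⁆ ≤ Z := by
  rw [commutator_le]
  intro d hd
  induction hd using closure_induction with
  | mem x hx => intro q hq; rw [commutatorElement_def]; exact h x hx q hq
  | one => intro q _; simp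
  | mul a b ha hb iha ihb =>
    intro q hq
    have e : ⁅a * b, q⁆ = a * ⁅b, q⁆ * a⁻¹ * ⁅a, q⁆ := by
      simp only [commutatorElement_def]; group
    rw [e]
    exact Z.mul_mem ((mem_normalizer_iff.1 (hZ ha) _).1 (ihb q hq)) (iha q hq)
  | inv a ha iha =>
    intro q hq
    have e : ⁅a⁻¹, q⁆ = a⁻¹ * ⁅a, q⁆⁻¹ * a⁻¹⁻¹ := by
      simp only [commutatorElement_def]; group
    rw [e]
    exact (mem_normalizer_iff.1 (inv_mem (hZ ha)) _).1 (Z.inv_mem (iha q hq))

theorem commutator_sup_le' {B C Q Z : Subgroup P} (hB : B ≤ normalizer (Z : Set P))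
    (hC : C ≤ normalizer (Z : Set P)) (h1 : ⁅B, Q⁆ ≤ Z) (h2 : ⁅C, Q⁆ ≤ Z) : ⁅B ⊔ C, Q⁆ ≤ Z := by
  rw [sup_eq_closure]
  apply commutator_closure_le
  · rw [← sup_eq_closure]; exact sup_le hB hC
  · rintro x (hx | hx) q hq
    · rw [← commutatorElement_def]; exact h1 (commutator_mem_commutator hx hq)
    · rw [← commutatorElement_def]; exact h2 (commutator_mem_commutator hx hq)

/-- The enlarged subgroup: `B` and one more element `x` of its centralizer, central modulo `B` in
`N_P(B)`. -/
theorem enlarge {B : Subgroup P} (hB : B ∈ classTwoSubgroups P) {x : P}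
    (hx : x ∈ centralizer (B : Set P))
    (hc : ∀ y ∈ normalizer (B : Set P), x * y * x⁻¹ * y⁻¹ ∈ B ⊓ centralizer (B : Set P)) :
    B ⊔ zpowers x ∈ classTwoSubgroups P ∧
      B ⊓ centralizer (B : Set P) ≤ (B ⊔ zpowers x) ⊓ centralizer ((B ⊔ zpowers x : Subgroup P) : Set P) ∧
      normalizer (B : Set P) ≤ normalizer ((B ⊔ zpowers x : Subgroup P) : Set P) ∧
      ∀ Q : Subgroup P, Q ≤ normalizer (B : Set P) →
        ⁅B, Q⁆ ≤ B ⊓ centralizer (B : Set P) →
          ⁅B ⊔ zpowers x, Q⁆ ≤
            (B ⊔ zpowers x) ⊓ centralizer ((B ⊔ zpowers x : Subgroup P) : Set P) := by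
  set D := B ⊔ zpowers x with hD
  have hBD : B ≤ D := le_sup_left
  have hxD : x ∈ D := (le_sup_right : zpowers x ≤ D) (mem_zpowers x)
  have hxN : x ∈ normalizer (B : Set P) := centralizer_le_normalizer _ hx
  have hDC : D ≤ normalizer (B : Set P) := sup_le le_normalizer (by
    rw [zpowers_le]; exact hxN)
  -- the centre
  have hZ' : B ⊓ centralizer (B : Set P) ≤ centralizer (D : Set P) := by
    rw [le_centralizer_iff]
    refine sup_le ?_ ?_
    · rw [le_centralizer_iff]; exact inf_le_right
    · rw [zpowers_le]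
      rw [mem_centralizer_iff] at hx ⊢
      exact fun b hb => hx b hb.1
  have hZ : B ⊓ centralizer (B : Set P) ≤ D ⊓ centralizer (D : Set P) :=
    le_inf (inf_le_left.trans hBD) hZ'
  have hZn : D ≤ normalizer ((D ⊓ centralizer (D : Set P) : Subgroup P) : Set P) := by
    refine le_trans ?_ (centralizer_le_normalizer _)
    rw [le_centralizer_iff]
    exact inf_le_right
  have hxZ : x ∈ centralizer (D : Set P) := by
    have : D ≤ centralizer ((zpowers x : Subgroup P) : Set P) := by
      refine sup_le ?_ ?_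
      · rw [le_centralizer_iff, zpowers_le]; exact hx
      · exact le_centralizer_iff_isMulCommutative.2 inferInstance
    rw [le_centralizer_iff, zpowers_le] at this
    exact this
  have hQx : ∀ Q : Subgroup P, Q ≤ normalizer (B : Set P) →
      ⁅zpowers x, Q⁆ ≤ D ⊓ centralizer (D : Set P) := by
    intro Q hQ
    rw [zpowers_eq_closure]
    apply commutator_closure_le
    · rw [← zpowers_eq_closure, zpowers_le]; exact hZn hxD
    · rintro y hy q hq
      rw [Set.mem_singleton_iff] at hy
      subst hy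
      exact hZ (hc q (hQ hq))
  have hlast : ∀ Q : Subgroup P, Q ≤ normalizer (B : Set P) →
        ⁅B, Q⁆ ≤ B ⊓ centralizer (B : Set P) → ⁅D, Q⁆ ≤ D ⊓ centralizer (D : Set P) := by
    intro Q hQ hBQ
    exact commutator_sup_le' (hBD.trans hZn) (by rw [zpowers_le]; exact hZn hxD)
      (hBQ.trans hZ) (hQx Q hQ)
  refine ⟨?_, hZ, ?_, hlast⟩
  · have h1 : ⁅B, B⁆ ≤ B ⊓ centralizer (B : Set P) :=
      le_inf (commutator_le_self B) hB
    have h2 : ⁅D, B⁆ ≤ D ⊓ centralizer (D : Set P) := hlast B le_normalizer h1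
    have h3 : ⁅D, zpowers x⁆ ≤ D ⊓ centralizer (D : Set P) := by
      rw [commutator_comm]; exact hQx D hDC
    have h4 : ⁅D, D⁆ ≤ D ⊓ centralizer (D : Set P) := by
      have : ⁅B ⊔ zpowers x, D⁆ ≤ D ⊓ centralizer (D : Set P) :=
        commutator_sup_le' (hBD.trans hZn) (by rw [zpowers_le]; exact hZn hxD)
          (by rw [commutator_comm]; exact h2) (by rw [commutator_comm]; exact h3)
      exact this
    exact h4.trans inf_le_right
  · have h5 : ⁅normalizer (B : Set P), D⁆ ≤ D := by
      rw [commutator_comm]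
      have : ⁅B ⊔ zpowers x, normalizer (B : Set P)⁆ ≤ D := by
        apply commutator_sup_le' (hBD.trans le_normalizer) (by rw [zpowers_le]; exact le_normalizer hxD)
        · exact (le_normalizer_iff_commutator_le_left.1
            (le_refl (normalizer (B : Set P)))).trans hBD
        · exact (hQx _ le_rfl).trans inf_le_left
      exact this
    exact le_normalizer_iff_commutator_le_right.2 h5

theorem centralizer_le_of_maximal_classTwo [Finite P] {p : ℕ} [Fact p.Prime] (hP : IsPGroup p P)
    {B : Subgroup P} (hB : B ∈ classTwoSubgroups P)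
    (hmax : ∀ C ∈ classTwoSubgroups P, B ≤ C → C = B) : centralizer (B : Set P) ≤ B := by
  by_contra h
  obtain ⟨x, hx, hxB, hc⟩ := exists_central_step hP B h
  obtain ⟨h1, -, -, -⟩ := enlarge hB hx hc
  have := hmax _ h1 le_sup_left
  exact hxB (this ▸ (le_sup_right : zpowers x ≤ B ⊔ zpowers x) (mem_zpowers x))

theorem centralizer_le_of_maximal_upper [Finite P] {p : ℕ} [Fact p.Prime] (hP : IsPGroup p P)
    (Q : Subgroup P) {B : Subgroup P} (hB : B ∈ kUpperStarFamily Q)
    (hmax : ∀ C ∈ kUpperStarFamily Q, B ≤ C → C = B) : centralizer (B : Set P) ≤ B := by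
  by_contra h
  obtain ⟨x, hx, hxB, hc⟩ := exists_central_step hP B h
  obtain ⟨h1, -, -, h4⟩ := enlarge hB.1 hx hc
  have hQ : Q ≤ normalizer (B : Set P) :=
    le_normalizer_iff_commutator_le_left.2 (hB.2.trans inf_le_left)
  have := hmax _ ⟨h1, h4 Q hQ hB.2⟩ le_sup_left
  exact hxB (this ▸ (le_sup_right : zpowers x ≤ B ⊔ zpowers x) (mem_zpowers x))

theorem centralizer_le_of_maximal_lower [Finite P] {p : ℕ} [Fact p.Prime] (hP : IsPGroup p P)
    (Q : Subgroup P) {B : Subgroup P} (hB : B ∈ kLowerStarFamily Q)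
    (hmax : ∀ C ∈ kLowerStarFamily Q, B ≤ C → C = B) : centralizer (B : Set P) ≤ B := by
  by_contra h
  obtain ⟨x, hx, hxB, hc⟩ := exists_central_step hP B h
  obtain ⟨h1, h2, h3, h4⟩ := enlarge hB.1 hx hc
  have hm : B ⊔ zpowers x ∈ kLowerStarFamily Q := by
    refine ⟨h1, hB.2.1.trans h3, fun A hA hAQ hBA h5 h6 => ?_⟩
    refine h4 A (hAQ.trans hB.2.1) (hB.2.2 A hA hAQ (le_sup_left.trans hBA) ?_ ?_)
    · rw [eq_bot_iff, ← h5]; exact commutator_mono le_sup_left le_rfl
    · rw [eq_bot_iff, ← h6]; exact commutator_mono (commutator_mono h2 le_rfl) le_rfl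
  have := hmax _ hm le_sup_left
  exact hxB (this ▸ (le_sup_right : zpowers x ≤ B ⊔ zpowers x) (mem_zpowers x))

theorem exists_maximal_in [Finite P] (𝒦 : Set (Subgroup P)) (h : 𝒦.Nonempty) :
    ∃ B ∈ 𝒦, ∀ C ∈ 𝒦, B ≤ C → C = B := by
  obtain ⟨B, hB⟩ := (Set.toFinite 𝒦).exists_maximal h
  exact ⟨B, hB.1, fun C hC hBC => le_antisymm (hB.2 hC hBC) hBC⟩

theorem bot_mem_lower (Q : Subgroup P) : ⊥ ∈ kLowerStarFamily Q :=
  abelian_normal_mem_lower inferInstance Q

theorem bot_mem_upper (Q : Subgroup P) : ⊥ ∈ kUpperStarFamily Q :=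
  abelian_normal_mem_upper inferInstance Q

theorem centralizer_even_le [Finite P] {p : ℕ} [Fact p.Prime] (hP : IsPGroup p P) (n : ℕ) :
    centralizer (kSeqEven P n : Set P) ≤ kSeqEven P n := by
  obtain ⟨B, hB, hmax⟩ := exists_maximal_in (kLowerStarFamily (kSeqOdd P n)) ⟨_, bot_mem_lower _⟩
  have h1 : B ≤ kSeqEven P n := le_sSup hB
  exact (centralizer_le h1).trans ((centralizer_le_of_maximal_lower hP _ hB hmax).trans h1)

theorem centralizer_odd_le [Finite P] {p : ℕ} [Fact p.Prime] (hP : IsPGroup p P) (n : ℕ) :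
    centralizer (kSeqOdd P n : Set P) ≤ kSeqOdd P n := by
  cases n with
  | zero => exact le_top
  | succ n =>
    obtain ⟨B, hB, hmax⟩ := exists_maximal_in (kUpperStarFamily (kSeqEven P n)) ⟨_, bot_mem_upper _⟩
    have h1 : B ≤ kSeqOdd P (n + 1) := le_sSup hB
    exact (centralizer_le h1).trans ((centralizer_le_of_maximal_upper hP _ hB hmax).trans h1)

theorem centralizer_kInfLower_le [Finite P] {p : ℕ} [Fact p.Prime] (hP : IsPGroup p P) :
    centralizer (kInfLower P : Set P) ≤ kInfLower P := by
  obtain ⟨N, hN⟩ := eventually_const (P := P)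
  rw [← (hN N le_rfl).1]
  exact centralizer_even_le hP N

theorem centralizer_kInfUpper_le [Finite P] {p : ℕ} [Fact p.Prime] (hP : IsPGroup p P) :
    centralizer (kInfUpper P : Set P) ≤ kInfUpper P := by
  obtain ⟨N, hN⟩ := eventually_const (P := P)
  rw [← (hN N le_rfl).2]
  exact centralizer_odd_le hP N

theorem center_le_centralizer' (H : Subgroup P) : center P ≤ centralizer (H : Set P) :=
  Subgroup.center_le_centralizer _

theorem center_le_kInfLower [Finite P] {p : ℕ} [Fact p.Prime] (hP : IsPGroup p P) :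
    center P ≤ kInfLower P :=
  (Subgroup.center_le_centralizer _).trans (centralizer_kInfLower_le hP)

theorem center_le_kInfUpper [Finite P] {p : ℕ} [Fact p.Prime] (hP : IsPGroup p P) :
    center P ≤ kInfUpper P :=
  (Subgroup.center_le_centralizer _).trans (centralizer_kInfUpper_le hP)

end Members

/-! ### Isomorphism-invariant `p`-group functors -/

theorem isCharPFunctor_kInfLower (p : ℕ) [Fact p.Prime] :
    IsCharPFunctor p (fun (Q : Type u) [Group Q] => kInfLower Q) := by
  refine ⟨fun Q _ _ hQ _ h => ?_, fun Q R _ _ _ _ φ => kInfLower_map_equiv φ⟩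
  have h1 := center_le_kInfLower hQ
  replace h : kInfLower Q = ⊥ := h
  rw [h, le_bot_iff] at h1
  have := hQ.center_nontrivial
  exact (nontrivial_iff_ne_bot (center Q)).1 inferInstance h1

theorem isCharPFunctor_kInfUpper (p : ℕ) [Fact p.Prime] :
    IsCharPFunctor p (fun (Q : Type u) [Group Q] => kInfUpper Q) := by
  refine ⟨fun Q _ _ hQ _ h => ?_, fun Q R _ _ _ _ φ => kInfUpper_map_equiv φ⟩
  have h1 := center_le_kInfUpper hQ
  replace h : kInfUpper Q = ⊥ := h
  rw [h, le_bot_iff] at h1
  have := hQ.center_nontrivial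
  exact (nontrivial_iff_ne_bot (center Q)).1 inferInstance h1

/-! ### Subgroups containing all terms of nonnegative index -/

section Interleave

variable {G : Type u} [Group G]

theorem upper_in_anti {S T A B : Subgroup G} (hST : T ≤ S) (hAB : A ≤ B) :
    sSup {X | X ≤ T ∧ X ∈ kUpperStarFamily B} ≤ sSup {X | X ≤ S ∧ X ∈ kUpperStarFamily A} :=
  sSup_le_sSup fun _ hX => ⟨hX.1.trans hST, upper_anti hAB hX.2⟩

theorem interleave {S T : Subgroup G} (hTS : T ≤ S)
    (h : ∀ n, evenIn S n ≤ T ∧ oddIn S (n + 1) ≤ T) (n : ℕ) :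
    (oddIn T n ≤ oddIn S n ∧ evenIn S n ≤ evenIn T n) ∧
      (oddIn S (n + 1) ≤ oddIn T n ∧ evenIn T n ≤ evenIn S (n + 1)) := by
  have mem_lower : ∀ {A B X : Subgroup G}, A ≤ B → X ∈ kLowerStarFamily B →
      X ∈ kLowerStarFamily A := fun hAB hX => lower_anti hAB hX
  have key1 : ∀ n, oddIn T n ≤ oddIn S n → evenIn S n ≤ evenIn T n := by
    intro n hn
    have hle := (h n).1
    rw [evenIn_eq] at hle
    rw [evenIn_eq, evenIn_eq]
    refine sSup_le_sSup fun X hX => ⟨?_, mem_lower hn hX.2⟩
    exact (le_sSup hX).trans hle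
  have key2 : ∀ n, oddIn S (n + 1) ≤ oddIn T n → evenIn T n ≤ evenIn S (n + 1) := by
    intro n hn
    rw [evenIn_eq, evenIn_eq]
    exact sSup_le_sSup fun X hX => ⟨hX.1.trans hTS, mem_lower hn hX.2⟩
  have key3 : ∀ n, evenIn S n ≤ evenIn T n → oddIn T (n + 1) ≤ oddIn S (n + 1) := by
    intro n hn
    rw [oddIn_succ, oddIn_succ]
    exact sSup_le_sSup fun X hX => ⟨hX.1.trans hTS, upper_anti hn hX.2⟩
  have key4 : ∀ n, evenIn T n ≤ evenIn S (n + 1) → oddIn S (n + 1 + 1) ≤ oddIn T (n + 1) := by
    intro n hn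
    have hle := (h (n + 1)).2
    rw [oddIn_succ] at hle
    rw [oddIn_succ, oddIn_succ]
    refine sSup_le_sSup fun X hX => ⟨?_, upper_anti hn hX.2⟩
    exact (le_sSup hX).trans hle
  induction n with
  | zero =>
    have h0 : oddIn T 0 ≤ oddIn S 0 := by rw [oddIn_zero, oddIn_zero]; exact hTS
    have h1 : oddIn S (0 + 1) ≤ oddIn T 0 := by rw [oddIn_zero]; exact (h 0).2
    exact ⟨⟨h0, key1 0 h0⟩, ⟨h1, key2 0 h1⟩⟩
  | succ n ih =>
    have h0 := key3 n ih.1.2
    have h1 := key4 n ih.2.2
    exact ⟨⟨h0, key1 _ h0⟩, ⟨h1, key2 _ h1⟩⟩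

/-- If `T ≤ S` contains every term of nonnegative index of the K-sequence of `S`, the K-infinity
subgroups of `T` and `S` are equal. -/
theorem induced_eq_of_terms_le {S T : Subgroup G} (hTS : T ≤ S)
    (h : ∀ n, evenIn S n ≤ T ∧ oddIn S (n + 1) ≤ T) :
    inducedFunctor kInfLower T = inducedFunctor kInfLower S ∧
      inducedFunctor kInfUpper T = inducedFunctor kInfUpper S := by
  rw [inducedLower_eq, inducedLower_eq, inducedUpper_eq, inducedUpper_eq]
  refine ⟨le_antisymm ?_ ?_, le_antisymm ?_ ?_⟩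
  · exact iSup_le fun n => ((interleave hTS h n).2.2).trans (le_iSup (evenIn S) (n + 1))
  · exact iSup_le fun n => ((interleave hTS h n).1.2).trans (le_iSup (evenIn T) n)
  · exact le_iInf fun n => (iInf_le (oddIn T) n).trans (interleave hTS h n).1.1
  · exact le_iInf fun n => (iInf_le (oddIn S) (n + 1)).trans (interleave hTS h n).2.1

theorem induced_normal (T : Subgroup G) [hT : T.Normal] :
    (inducedFunctor kInfLower T).Normal ∧ (inducedFunctor kInfUpper T).Normal := by
  constructor
  · rw [normal_iff_map_conj_eq]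
    intro g
    have h := inducedLower_map (MulAut.conj g).toMonoidHom (MulAut.conj g).injective T
    have e : T.map (MulAut.conj g).toMonoidHom = T := Normal.map_conj_eq T g
    rw [e] at h
    exact h
  · rw [normal_iff_map_conj_eq]
    intro g
    have h := inducedUpper_map (MulAut.conj g).toMonoidHom (MulAut.conj g).injective T
    have e : T.map (MulAut.conj g).toMonoidHom = T := Normal.map_conj_eq T g
    rw [e] at h
    exact h

end Interleave

end Cfsg.Agent.H35.KSeq
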