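import Cfsg.Agent.H35.Cubic2
import Cfsg.Agent.S2003
set_option linter.all false

/-!
# The quartic element outside `O_p(G)` if a K-infinity subgroup of a Sylow subgroup is not normal
-/

set_option autoImplicit false

universe u

namespace Cfsg.Agent.H35.Quartic

open Cfsg Subgroup Cfsg.Agent.H35.KSeq Cfsg.Agent.H35.Chief Cfsg.Agent.H35.Cubic
  Cfsg.Agent.H35.Cubic2
open scoped commutatorElement

variable {G : Type u} [Group G]

/-- **The quartic element.** If a K-infinity subgroup of `S ≥ T = O_p(G)` is not normal in `G`, some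
`g ∈ S` outside `T` satisfies `[X, g, g, g, g] ≤ Y` for all chief factors `X/Y` of `G` below `T`,
`[Z(T), g, g] = 1`, and, if `C_G(T) ≤ T`, acts quadratically but not trivially on a chief factor below
`T`, so that some quotient of `G` is not `p`-stable. -/
theorem exists_quartic [Finite G] {p : ℕ} [Fact p.Prime] {S : Subgroup G}
    (hTS : pCore p G ≤ S)
    (hK : ¬ (inducedFunctor kInfLower S).Normal ∨ ¬ (inducedFunctor kInfUpper S).Normal) :
    ∃ g ∈ S, g ∉ pCore p G ∧
      (∀ U V : Subgroup G, IsChiefFactor U V → U ≤ pCore p G →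
        iterCommutator U (zpowers g) 4 ≤ V) ∧
      ⁅⁅pCore p G ⊓ centralizer ((pCore p G : Subgroup G) : Set G), zpowers g⁆, zpowers g⁆ = ⊥ ∧
      (centralizer ((pCore p G : Subgroup G) : Set G) ≤ pCore p G →
        (∃ U V : Subgroup G, IsChiefFactor U V ∧ U ≤ pCore p G ∧
          ⁅⁅U, zpowers g⁆, zpowers g⁆ ≤ V ∧ ¬ ⁅U, zpowers g⁆ ≤ V) ∧
        ∃ (N : Subgroup G) (_ : N.Normal), ¬ IsNormalizerPStable p (G ⧸ N)) := by
  have hTn : (pCore p G).Normal := Cfsg.Agent.Lib.Cores.pCore_normal p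
  have hTp : IsPGroup p ↥(pCore p G) := Cfsg.Agent.Lib.Cores.pCore_isPGroup p
  obtain ⟨C, hCT, hCn, hCc, hC1, hC2, hTC, hC4, hA5⟩ := exists_critical (pCore p G) hTp
  obtain ⟨g, hgS, hgT, h3, h2, h4⟩ := exists_cubic hTS hCT hC2 hTC hA5 hK
  refine ⟨g, hgS, hgT, ?_, ?_, fun hCG => ?_⟩
  · intro U V hUV hUT
    have hzn : ∀ X : Subgroup G, X.Normal → zpowers g ≤ normalizer (X : Set G) :=
      fun X _ => le_normalizer_of_normal' X _
    have := Cfsg.Agent.S2003.result (p := p) (pCore p G) hTp C hCT hCc hC1 hC2 hTC hC4 hA5 g 3 2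
      (by norm_num) (by norm_num)
      (fun X Y hXY hX => by
        refine (iter_mono hX le_rfl 3).trans ?_
        rw [iter_three, h3]; exact bot_le)
      (fun X Y hXY hX => by
        refine (iter_mono hX le_rfl 2).trans ?_
        show ⁅⁅C ⊓ centralizer (C : Set G), zpowers g⁆, zpowers g⁆ ≤ Y
        exact (le_of_eq h2).trans bot_le)
      U V hUV hUT
    exact this
  · rw [← le_bot_iff, ← h2]
    refine commutator_mono (commutator_mono ?_ le_rfl) le_rfl
    rw [← hC4]
    exact inf_le_inf_left _ (centralizer_le hCT)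
  · obtain ⟨U, V, hUV, hUC, hq, hn⟩ := h4 hCG
    have hV := hUV.2.2.1
    exact ⟨⟨U, V, hUV, hUC.trans hCT, hq, hn⟩, V, hV,
      not_stable_of_chief hUV (hTp.to_le (hUC.trans hCT)) hq hn⟩

end Cfsg.Agent.H35.Quartic
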